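import Cfsg.Agent.Lib.Twisted.Order

/-! # The Weyl group of the twisted group of type ³D₄, generated by a script. -/

set_option autoImplicit false

namespace Cfsg.Agent.Lib.Twisted.OrderData.D4

open Cfsg.Agent.Lib.Twisted.Order

/-- The generators. -/
def Wt : ℕ := nat_lit 0x170e0f101105131415160a0b0c0d01020304120607080900161715141213110d0c09100f08070e0b0a06040503020001

/-- The roots of the classes. -/
def psiL : ℕ → List ℕ
  | 0 => [14]
  | 1 => [12, 13, 18]
  | _ => []

/-- The degrees. -/
def deg : ℕ → ℕ
  | 0 => 1
  | 1 => 3
  | _ => 0

/-- The certificate. -/
def W : WCert where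
  n := 12
  R := nat_lit 0x102030405060708090a0b0c0d0e0f1011121314151617010002030504060a0b0e07080f10090c0d11131214151716000908070612040302010d0c0b0a161514130511100f0e17010e0b0a061305030200100f08071715141204110d0c0916090008071206040d0c1603021514010b0a131105100f170e0e010b0a130605100f17030215140008071211040d0c160909160c0d04111207080014150203170f100506130a0b010e0e170f100511130a0b0114150203160c0d0406120708000916090c0d11041214151707080f100002030513060a0b0e01170e0f101105131415160a0b0c0d01020304120607080900161715141213110d0c09100f08070e0b0a0604050302000117161514131211100f0e0d0c0b0a09080706050403020100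
  P := nat_lit 0x900080007000600050004000300020001000000000000
  G := nat_lit 0x100010000000000010001000000000001000100000000
  C := nat_lit 0x9000a0008000b000b0007000a00060005000900040008000700030006000200010005000000040003000000020001
  E := [0, 1, 3, 4, 4, 5, 7, 8, 8, 9, 11, 12]

set_option maxRecDepth 1000000 in
theorem check : wcheck 24 2 Wt psiL deg W = true := by decide +kernel

end Cfsg.Agent.Lib.Twisted.OrderData.D4
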