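import Cfsg.Agent.Lib.Twisted.Order

/-! # The Weyl group of the twisted group of type ²F₄, generated by a script. -/

set_option autoImplicit false

namespace Cfsg.Agent.Lib.Twisted.OrderData.F4

open Cfsg.Agent.Lib.Twisted.Order

/-- The generators. -/
def Wt : ℕ := nat_lit 0x2f2a2b2c2d2e292426272128222325181a111d13141f16200f19101b1c121e15170a0c0d070e08090b060102030405002e2f2d28201e1f2c2725261c1d1b0e2b292a232422191a171815160d0b0c05060421141213090a080310110f07020001

/-- The roots of the classes. -/
def psiL : ℕ → List ℕ
  | 0 => [24, 33]
  | 1 => [25, 27, 28, 30]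
  | _ => []

/-- The degrees. -/
def deg : ℕ → ℕ
  | 0 => 1
  | 1 => 2
  | _ => 0

/-- The certificate. -/
def W : WCert where
  n := 16
  R := nat_lit 0x102030405060708090a0b0c0d0e0f101112131415161718191a1b1c1d1e1f202122232425262728292a2b2c2d2e2f010002070f111003080a09131214210406050c0b0d161518171a192224232a292b0e1b1d1c2625272c1f1e20282d2f2e000504030201060b09080e070d0c0a17151e121c1b10190f20161f14131d111a182523222821272624292e2d2c2b2a2f01110f07020010130a08210314120918162a0c2422061a042b15290d0b23051917261d1b2c0e27251c1f2f2d28201e2e0500040b171e1503090e081c121b250206010d070c1910200f1f162328222e292d0a141d132721262c1a1118242b2f2a11010f13182a16070a2108240c22260210001403121a062b0429151d2c1b2f1f2d090d230b270e25281905171c202e1e051e170b0400151c0e0925031b120820192e0d2823061f022d10290c072201160f271d142c0a2621131a2f2b2418112a112a18130f011624210a2607220c082b1a2f142c1d1029022d061f12031b00150427230d2809250e0b192e201c17051e1e05171c202e190b0e2509280d23270415001b03121f062d0229101d2c142f1a2b080c2207260a212416010f13182a112a1118242b2f1a1321260a2c141d270f160122070c29102d021f0623280d2e192008121b0325090e1c1500040b171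e051e2e201c17051928250e270b230d092d1f2f1b2c1d1529042b061a12031400100226220c2408210a07162a18130f01112a2f2b2418111a2c262127131d140a2d292e222823161f0f2010190c070d010602251b121c080e0903151e170b0400052e1e20282d2f1f1c25270e2c1b1d26171905230b0d29152b041a0622240c2a16180912140321080a13100002070f11012f2a2b2c2d2e292426272128222325181a111d13141f16200f19101b1c121e15170a0c0d070e08090b060102030405002e2f2d28201e1f2c2725261c1d1b0e2b292a232422191a171815160d0b0c05060421141213090a080310110f070200012f2e2d2c2b2a292827262524232221201f1e1d1c1b1a191817161514131211100f0e0d0c0b0a09080706050403020100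
  P := nat_lit 0xd000c000b000a000900080007000600050004000300020001000000000000
  G := nat_lit 0x1000100000000000100010000000000010001000000000001000100000000
  C := nat_lit 0xd000e000c000f000f000b000e000a0009000d0008000c000b0007000a00060005000900040008000700030006000200010005000000040003000000020001
  E := [0, 1, 2, 3, 3, 4, 5, 6, 6, 7, 8, 9, 9, 10, 11, 12]

set_option maxRecDepth 1000000 in
theorem check : wcheck 48 2 Wt psiL deg W = true := by decide +kernel

end Cfsg.Agent.Lib.Twisted.OrderData.F4
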